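import Groth.Agent.Vancyc.H364.JacCoord
import Groth.Agent.Lefpen.H705.ClosedPoint
import Groth.Agent.Lefpen.H721.OmegaSec
import Groth.Agent.Ega2.QCohLocal

/-!
# (A4) of S4009: the section `df` of `Ω_X ⊗ f^* T_S` and the Milnor numbers

* `exists_section`: `T` invertible with `T ⊗ Ω_S ≅ O_S` and `s : O_X ⟶ Ω_X ⊗ f^* T` whose ideal of coordinates is the
  Jacobian ideal at closed points, and the unit ideal at the points where `f` is smooth;
* `span_coord`: the ideal of coordinates in terms of a local basis;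
* `milnor_eq_zero`: the Milnor number is zero at points which are not closed.
-/

set_option autoImplicit false
universe u

open CategoryTheory CategoryTheory.Limits AlgebraicGeometry Opposite TopologicalSpace

namespace Groth.Agent.Vancyc.H364.A4

open Groth.Agent.Sga67.Sec Groth.Agent.Sga67.LocBasis Groth.Agent.Sga67.LocBasisStalk
open CoordIdeal TensCoord DfSec JacCoord

section Coord

variable {X : Scheme.{u}} {M : X.Modules}

/-- the ideal of coordinates at `x` of a morphism `O_X ⟶ M` -/
noncomputable def coordAt (s : Coh.structureModule X ⟶ M) (x : X) : Ideal (X.presheaf.stalk x) :=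
  coordIdeal (X.presheaf.stalk x) (ger M (U := ⊤) x trivial (appS s ⊤ (one X ⊤)))

/-- the ideal of coordinates from a local basis -/
theorem span_coord (s : Coh.structureModule X ⟶ M) {U : X.Opens} {κ : Type*} [Fintype κ] {b : κ → Sec M U}
    (hb : IsLocBasis b) {V : X.Opens} (h : V ≤ U) (a : κ → Γ(X, V)) (ha : comb b h a = appS s V (one X V))
    (x : X) (hx : x ∈ V) : Ideal.span (Set.range fun i => gerO x hx (a i)) = coordAt s x := by
  rw [← coordIdeal_ger hb h a x hx, ha, coordAt]
  congr 1
  rw [← res_one X (le_top : V ≤ ⊤), appS_res, ger_res]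

theorem coordAt_comp_iso {N : X.Modules} (s : Coh.structureModule X ⟶ M) (e : M ≅ N) (x : X) :
    coordAt (s ≫ e.hom) x = coordAt s x := by
  have key : ∀ {M N : X.Modules} (s : Coh.structureModule X ⟶ M) (e : M ⟶ N),
      coordAt (s ≫ e) x ≤ coordAt s x := by
    intro M N s e
    have h1 : ger N (U := ⊤) x trivial (appS (s ≫ e) ⊤ (one X ⊤)) =
        CycB.StalkExact.stalkLin e x (ger M (U := ⊤) x trivial (appS s ⊤ (one X ⊤))) := by
      rw [stalkLin_ger, appS_comp]
    rw [coordAt, h1]
    exact coordIdeal_map_le _ _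
  apply le_antisymm (key s e.hom)
  have := key (s ≫ e.hom) e.inv
  rwa [Category.assoc, e.hom_inv_id, Category.comp_id] at this

end Coord

section Milnor

variable {k : Type u} [Field k] {X S : Scheme.{u}} (pX : X ⟶ Spec (CommRingCat.of k)) (f : X ⟶ S)

/-- the residue field at a closed point is `k` -/
theorem exists_sub_mem [IsAlgClosed k] [LocallyOfFiniteType pX] (x : X) (hx : IsClosed ({x} : Set X))
    (a : X.presheaf.stalk x) :
    ∃ c : k, a - CurvesB.OmegaStalkDict.stHom pX x c ∈ IsLocalRing.maximalIdeal (X.presheaf.stalk x) :=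
  Lefpen.H705.ClosedPoint.exists_sub_toStalk_mem pX x hx a

/-- a point where some quotient of the local ring has finite nonzero dimension is closed -/
theorem isClosed_of_finrank [LocallyOfFiniteType pX] (x : X) (J : Ideal (X.presheaf.stalk x))
    (h : letI := VanCyc.stalkAlgebra pX x; Module.finrank k (X.presheaf.stalk x ⧸ J) ≠ 0) :
    IsClosed ({x} : Set X) := by
  let := VanCyc.stalkAlgebra pX x
  have h1 : Module.Finite k (X.presheaf.stalk x ⧸ J) := Module.finite_of_finrank_pos (Nat.pos_of_ne_zero h)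
  have h2 : J ≠ ⊤ := by
    rintro rfl
    refine h ?_
    have : Subsingleton (X.presheaf.stalk x ⧸ (⊤ : Ideal (X.presheaf.stalk x))) :=
      Ideal.Quotient.subsingleton_iff.mpr rfl
    exact Module.finrank_zero_of_subsingleton
  have h3 : J ≤ IsLocalRing.maximalIdeal (X.presheaf.stalk x) := IsLocalRing.le_maximalIdeal h2
  rw [CurvesB.Node.isClosed_iff_finite pX x]
  let i1 : Algebra k (X.residueField x) := @Curv2.resAlgebra k _ X ⟨pX⟩ x
  let φ : (X.presheaf.stalk x ⧸ J) →ₐ[k] X.residueField x :=
    { toRingHom := Ideal.Quotient.lift J (X.residue x).hom (fun a ha => by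
        have : a ∈ IsLocalRing.maximalIdeal (X.presheaf.stalk x) := h3 ha
        exact (IsLocalRing.residue_eq_zero_iff a).mpr this)
      commutes' := fun c => rfl }
  refine Module.Finite.of_surjective φ.toLinearMap ?_
  intro y
  obtain ⟨z, rfl⟩ := X.residue_surjective x y
  exact ⟨Ideal.Quotient.mk J z, rfl⟩

/-- The Milnor number is `0` at points which are not closed. -/
theorem milnor_eq_zero [LocallyOfFiniteType pX] (x : X) (hx : ¬ IsClosed ({x} : Set X)) :
    VanCyc.milnor pX f x = 0 := by
  by_contra h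
  exact hx (isClosed_of_finrank pX x _ h)

end Milnor

/-- (A4): the section `df` of `Ω_X ⊗ f^* T_S`. -/
theorem exists_section {k : Type u} [Field k] [IsAlgClosed k] {X S : Scheme.{u}}
    (pX : X ⟶ Spec (CommRingCat.of k)) (pS : S ⟶ Spec (CommRingCat.of k)) (f : X ⟶ S) (hf : f ≫ pS = pX)
    [Smooth pX] [IsSeparated pX] [IsSeparated pS] (hL : PicF.IsInvertible (Omega.sheaf pS)) :
    ∃ T : S.Modules, PicF.IsInvertible T ∧
      Nonempty (CohB1.tensorMod T (Omega.sheaf pS) ≅ Coh.structureModule S) ∧
      ∃ s : Coh.structureModule X ⟶ CohB1.tensorMod (Omega.sheaf pX) ((Scheme.Modules.pullback f).obj T),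
        (∀ x : X, IsClosed ({x} : Set X) → coordAt s x = VanCyc.jacIdeal pX f x) ∧
        (∀ x : X, (f.stalkMap x).hom.FormallySmooth → coordAt s x = ⊤) := by
  subst hf
  have hΩ := Lefpen.H721.OmegaSec.isFinLocFree_omega (f ≫ pS)
  exact ⟨T pS, isInvertible_T pS hL, nonempty_iso_T pS hL, ds f pS hL,
    fun x hx => coordIdeal_ds f pS hL hΩ x (exists_sub_mem (f ≫ pS) x hx),
    fun x hx => coordIdeal_ds_eq_top f pS hL hΩ x hx⟩

/-- `f` is smooth at the points of an open `U` with `U.ι ≫ f` smooth. -/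
theorem formallySmooth_stalkMap {X S : Scheme.{u}} (f : X ⟶ S) (U : X.Opens) [hU : Smooth (U.ι ≫ f)] (x : X)
    (hx : x ∈ U) : (f.stalkMap x).hom.FormallySmooth := by
  have h1 : ((U.ι ≫ f).stalkMap ⟨x, hx⟩).hom.FormallySmooth := by
    have h2 := (U.ι ≫ f).smoothLocus_eq_top
    have h3 : (⟨x, hx⟩ : U) ∈ (U.ι ≫ f).smoothLocus := by rw [h2]; trivial
    exact h3
  rw [Scheme.Hom.stalkMap_comp] at h1
  exact (RingHom.FormallySmooth.respectsIso.cancel_right_isIso (f.stalkMap (U.ι ⟨x, hx⟩)) (U.ι.stalkMap ⟨x, hx⟩)).mp h1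

end Groth.Agent.Vancyc.H364.A4
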