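import Mathlib.LinearAlgebra.Basis.Basic
import Mathlib.LinearAlgebra.Dual.Basis
import Mathlib.RingTheory.Ideal.Span
import Mathlib.RingTheory.Kaehler.Basic
import Mathlib.RingTheory.LocalRing.Basic

/-!
# The ideal of coordinates of an element of a module

`coordIdeal R m = {φ m | φ : M →ₗ[R] R}`; for a basis it is generated by the coordinates.
-/

set_option autoImplicit false
universe u

namespace Groth.Agent.Vancyc.H364.CoordIdeal

section Basic

variable (R : Type*) [CommRing R] {M N : Type*} [AddCommGroup M] [Module R M] [AddCommGroup N] [Module R N]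

/-- the ideal of values at `m` of the linear forms -/
def coordIdeal (m : M) : Ideal R := LinearMap.range (LinearMap.applyₗ m : (M →ₗ[R] R) →ₗ[R] R)

variable {R}

theorem mem_coordIdeal {m : M} {r : R} : r ∈ coordIdeal R m ↔ ∃ φ : M →ₗ[R] R, φ m = r := Iff.rfl

theorem apply_mem_coordIdeal (m : M) (φ : M →ₗ[R] R) : φ m ∈ coordIdeal R m := ⟨φ, rfl⟩

theorem coordIdeal_eq_span {κ : Type*} [Fintype κ] (β : Module.Basis κ R M) (a : κ → R) :
    coordIdeal R (∑ k, a k • β k) = Ideal.span (Set.range a) := by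
  classical
  apply le_antisymm
  · rintro _ ⟨φ, rfl⟩
    change φ (∑ k, a k • β k) ∈ _
    rw [map_sum]
    refine Ideal.sum_mem _ fun k _ => ?_
    rw [map_smul, smul_eq_mul, mul_comm]
    exact Ideal.mul_mem_left _ _ (Ideal.subset_span ⟨k, rfl⟩)
  · rw [Ideal.span_le]
    rintro _ ⟨k, rfl⟩
    refine ⟨β.coord k, ?_⟩
    change β.coord k (∑ j, a j • β j) = a k
    rw [map_sum, Finset.sum_eq_single k]
    · simp
    · intro j _ hj
      simp [hj]
    · simp

theorem coordIdeal_smul_le (r : R) (m : M) : coordIdeal R (r • m) ≤ coordIdeal R m := by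
  rintro _ ⟨φ, rfl⟩
  change φ (r • m) ∈ _
  rw [map_smul]
  exact Submodule.smul_mem _ _ ⟨φ, rfl⟩

theorem coordIdeal_unit_smul {r : R} (hr : IsUnit r) (m : M) : coordIdeal R (r • m) = coordIdeal R m := by
  apply le_antisymm (coordIdeal_smul_le r m)
  obtain ⟨u, rfl⟩ := hr
  have h : m = (↑u⁻¹ : R) • (↑u : R) • m := by rw [smul_smul, Units.inv_mul, one_smul]
  conv_lhs => rw [h]
  exact coordIdeal_smul_le _ _

theorem coordIdeal_map_le (g : M →ₗ[R] N) (m : M) : coordIdeal R (g m) ≤ coordIdeal R m := by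
  rintro _ ⟨φ, rfl⟩
  exact ⟨φ ∘ₗ g, rfl⟩

theorem coordIdeal_equiv (g : M ≃ₗ[R] N) (m : M) : coordIdeal R (g m) = coordIdeal R m := by
  apply le_antisymm (coordIdeal_map_le g.toLinearMap m)
  have := coordIdeal_map_le g.symm.toLinearMap (g m)
  simpa using this

end Basic

section Der

variable {k B : Type u} [CommRing k] [CommRing B] [Algebra k B] {Ω : Type u} [AddCommGroup Ω] [Module k Ω]
  [Module B Ω] [IsScalarTower k B Ω]

/-- linear forms at a differential = values of derivations -/
theorem mem_coordIdeal_der (d : Derivation k B Ω) (hd : Function.Bijective d.liftKaehlerDifferential) (b r : B) :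
    r ∈ coordIdeal B (d b) ↔ ∃ D : Derivation k B B, D b = r := by
  constructor
  · rintro ⟨φ, rfl⟩
    exact ⟨φ.compDer d, rfl⟩
  · rintro ⟨D, rfl⟩
    refine ⟨D.liftKaehlerDifferential ∘ₗ (LinearEquiv.ofBijective _ hd).symm.toLinearMap, ?_⟩
    change D.liftKaehlerDifferential ((LinearEquiv.ofBijective _ hd).symm (d b)) = D b
    have h : d b = LinearEquiv.ofBijective _ hd (KaehlerDifferential.D k B b) := by
      change d b = d.liftKaehlerDifferential (KaehlerDifferential.D k B b)
      rw [Derivation.liftKaehlerDifferential_comp_D]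
    rw [h, LinearEquiv.symm_apply_apply, Derivation.liftKaehlerDifferential_comp_D]

end Der

section Gen

/-- If a local ring module is generated by elements `e i` and isomorphic to the ring, one `e i` generates. -/
theorem exists_gen {R M ι : Type*} [CommRing R] [IsLocalRing R] [AddCommGroup M] [Module R M] (e : M)
    (he : ∀ m : M, ∃ r : R, m = r • e) (he' : ∀ r : R, r • e = 0 → r = 0) (v : ι → M)
    (hv : Submodule.span R (Set.range v) = ⊤) : ∃ (i : ι) (u : R), IsUnit u ∧ v i = u • e := by
  choose c hc using fun i => he (v i)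
  by_contra hcon
  push Not at hcon
  have h1 : ∀ i, c i ∈ IsLocalRing.maximalIdeal R := fun i => by
    rw [IsLocalRing.mem_maximalIdeal]
    intro hu
    exact hcon i (c i) hu (hc i)
  have h2 : ∀ m ∈ Submodule.span R (Set.range v), ∃ r ∈ IsLocalRing.maximalIdeal R, m = r • e := by
    intro m hm
    induction hm using Submodule.span_induction with
    | mem m hm =>
      obtain ⟨i, rfl⟩ := hm
      exact ⟨c i, h1 i, hc i⟩
    | zero => exact ⟨0, Ideal.zero_mem _, (zero_smul _ _).symm⟩
    | add a b _ _ ha hb =>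
      obtain ⟨r, hr, rfl⟩ := ha
      obtain ⟨s, hs, rfl⟩ := hb
      exact ⟨r + s, Ideal.add_mem _ hr hs, (add_smul _ _ _).symm⟩
    | smul t a _ ha =>
      obtain ⟨r, hr, rfl⟩ := ha
      exact ⟨t * r, Ideal.mul_mem_left _ _ hr, smul_smul _ _ _⟩
  obtain ⟨r, hr, h3⟩ := h2 e (by rw [hv]; trivial)
  have h4 : (1 - r) • e = 0 := by rw [sub_smul, one_smul, ← h3, sub_self]
  have h5 := he' _ h4
  have h6 : (1 : R) ∈ IsLocalRing.maximalIdeal R := by
    rw [sub_eq_zero] at h5
    rw [h5]; exact hr
  exact (Ideal.ne_top_iff_one _).mp (IsLocalRing.maximalIdeal.isMaximal R).ne_top h6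

end Gen

end Groth.Agent.Vancyc.H364.CoordIdeal
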