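import Groth.Agent.Grpsch.PicGrp
import Groth.Agent.Ega2.TensLift
import Groth.Agent.Dual.H366.ConSec

/-!
# The section `df` of `Ω_X ⊗ f^* T_S`

`f : X ⟶ S`, `p : S ⟶ Y` with `L = Omega.sheaf p` invertible; `T p = dual L`, `E f p = Omega.sheaf (f ≫ p) ⊗ f^* T`,
`ds : O_X ⟶ E f p` the composite `O_X ≅ f^* O_S ≅ f^*(L ⊗ T) ≅ f^* L ⊗ f^* T → Ω ⊗ f^* T`.  Local form:
`app_ds : ds (1) = pMap (f^* e) ⊗ f^* e^∨` over `f⁻¹ V` for every generator `e` of `L` over `V`.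
-/

set_option autoImplicit false
universe u

open CategoryTheory CategoryTheory.Limits AlgebraicGeometry Opposite TopologicalSpace

namespace Groth.Agent.Vancyc.H364.DfSec

open Groth.Agent.Fdesc.LocGen
open Groth.Agent.Grpsch.PicGrp (dual ev ev_tmul isIso_ev isInvertible_dual pullTensor pullTensor_app isIso_pullTensor
  isIso_pullOne dgen comp_dgen_self isGen_dgen)
open Groth.Agent.Dual.H366.Conormal (pMap pMap_sec_d)

variable {X S Y : Scheme.{u}} (f : X ⟶ S) (p : S ⟶ Y)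

/-- the dual of `Ω_S` -/
noncomputable abbrev T : S.Modules := dual (Omega.sheaf p)

theorem isInvertible_T (hL : PicF.IsInvertible (Omega.sheaf p)) : PicF.IsInvertible (T p) :=
  isInvertible_dual hL

theorem nonempty_iso_T (hL : PicF.IsInvertible (Omega.sheaf p)) :
    Nonempty (CohB1.tensorMod (T p) (Omega.sheaf p) ≅ Coh.structureModule S) :=
  ⟨Ega2.Tens.swap _ _ ≪≫ @asIso _ _ _ _ (ev (Omega.sheaf p)) (isIso_ev hL)⟩

/-- `Ω_X ⊗ f^* T_S` -/
noncomputable abbrev E : X.Modules :=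
  CohB1.tensorMod (Omega.sheaf (f ≫ p)) ((Scheme.Modules.pullback f).obj (T p))

variable (hL : PicF.IsInvertible (Omega.sheaf p)) [QuasiCompact (pullback.diagonal p)]
  [QuasiCompact (pullback.diagonal (f ≫ p))]

/-- the section `df` of `Ω_X ⊗ f^* T_S` -/
noncomputable def ds : Coh.structureModule X ⟶ E f p :=
  homOf (pullTop f (one (X := S) ⊤)) ≫
    (Scheme.Modules.pullback f).map (@inv _ _ _ _ (ev (Omega.sheaf p)) (isIso_ev hL)) ≫
      pullTensor f (Omega.sheaf p) (T p) ≫ Ega2.Tens.mapT (pMap f p) (𝟙 _)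

/-- local form of `ds` -/
theorem app_ds {V : S.Opens} {e : Γ(Omega.sheaf p, V)} (he : IsGen e) :
    sec (ds f p hL) (f ⁻¹ᵁ V) = tmul ((pMap f p).app (f ⁻¹ᵁ V) (pullSec f e)) (pullSec f (dgen he)) := by
  have := isIso_ev hL
  have h1 : sec (homOf (pullTop f (one (X := S) ⊤))) (f ⁻¹ᵁ V) = pullSec f (one V) := by
    rw [sec_homOf]
    refine (res_pullSec f (le_top : V ≤ ⊤) (one (X := S) ⊤)).trans ?_
    rw [res_one]
  have h2 : ((Scheme.Modules.pullback f).map (inv (ev (Omega.sheaf p)))).app (f ⁻¹ᵁ V) (pullSec f (one V)) =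
      pullSec f (tmul e (dgen he)) := by
    rw [pullback_map_pullSec]
    congr 1
    have h3 : (ev (Omega.sheaf p)).app V (tmul e (dgen he)) = one V := by
      rw [ev_tmul, comp_dgen_self]
    rw [← h3]
    have h4 : ev (Omega.sheaf p) ≫ inv (ev (Omega.sheaf p)) = 𝟙 _ := IsIso.hom_inv_id _
    exact congr(($h4).app V (tmul e (dgen he)))
  change (Ega2.Tens.mapT (pMap f p) (𝟙 _)).app (f ⁻¹ᵁ V) ((pullTensor f (Omega.sheaf p) (T p)).app (f ⁻¹ᵁ V)
    (((Scheme.Modules.pullback f).map (inv (ev (Omega.sheaf p)))).app (f ⁻¹ᵁ V)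
      (sec (homOf (pullTop f (one (X := S) ⊤))) (f ⁻¹ᵁ V)))) = _
  rw [h1, h2, pullTensor_app]
  exact Ega2.Tens.mapT_tmul _ _ _ _

omit hL in
/-- `pMap` on differentials -/
theorem pMap_d (V : S.Opens) (a : Γ(S, V)) :
    (pMap f p).app (f ⁻¹ᵁ V) (pullSec f (CurvesB.OmegaDer.d p V a)) =
      CurvesB.OmegaDer.d (f ≫ p) (f ⁻¹ᵁ V) (f.app V a) := by
  refine Eq.trans ?_ (pMap_sec_d f p V a)
  have h : VarietyB.PullSec.sec f (Omega.sheaf p) (le_refl (f ⁻¹ᵁ V)) (CurvesB.OmegaDer.d p V a) =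
    pullSec f (CurvesB.OmegaDer.d p V a) := res_refl _ (pullSec f (CurvesB.OmegaDer.d p V a))
  exact congrArg _ h.symm

end Groth.Agent.Vancyc.H364.DfSec
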