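import Mathlib.RingTheory.Smooth.Basic
import Mathlib.RingTheory.Kaehler.JacobiZariski
import Mathlib.LinearAlgebra.TensorProduct.Basis

/-!
# Derivations extending along formally smooth maps

`exists_derivation`: `k → A → B` with `B` formally smooth over `A` and `dt` a basis of `Ω_{A/k}`: there is a
`k`-derivation `D` of `B` with `D t = 1`.
-/

set_option autoImplicit false
universe u

namespace Groth.Agent.Vancyc.H364.SmoothDer

open KaehlerDifferential
open scoped TensorProduct

/-- `B ⊗ Ω_{A/k} → Ω_{B/k}` has a retraction for `B` formally smooth over `A`. -/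
theorem exists_retraction (k A B : Type u) [CommRing k] [CommRing A] [CommRing B] [Algebra k A] [Algebra A B]
    [Algebra k B] [IsScalarTower k A B] [Algebra.FormallySmooth A B] :
    ∃ l : Ω[B⁄k] →ₗ[B] B ⊗[A] Ω[A⁄k], l ∘ₗ mapBaseChange k A B = LinearMap.id := by
  have hinj : Function.Injective (mapBaseChange k A B) := by
    rw [injective_iff_map_eq_zero]
    intro x hx
    obtain ⟨x, rfl⟩ := (Algebra.H1Cotangent.exact_δ_mapBaseChange k A B x).mp hx
    rw [Subsingleton.elim x 0, map_zero]
  have hex : Function.Exact (mapBaseChange k A B) (map k A B B) := exact_mapBaseChange_map k A B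
  obtain ⟨σ, hσ⟩ := Module.projective_lifting_property (map k A B B) LinearMap.id (map_surjective k A B)
  have h : (Function.Injective (mapBaseChange k A B) ∧ ∃ l, map k A B B ∘ₗ l = LinearMap.id) ↔
    (Function.Surjective (map k A B B) ∧ ∃ l, l ∘ₗ mapBaseChange k A B = LinearMap.id) := hex.split_tfae'.out 0 1
  exact (h.mp ⟨hinj, σ, hσ⟩).2

theorem exists_derivation {k A B : Type u} [CommRing k] [CommRing A] [CommRing B] [Algebra k A] [Algebra A B]
    [Algebra k B] [IsScalarTower k A B] [Algebra.FormallySmooth A B] (t : A)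
    (β : Module.Basis Unit A (Ω[A⁄k])) (hβ : β () = D k A t) :
    ∃ δ : Derivation k B B, δ (algebraMap A B t) = 1 := by
  obtain ⟨l, hl⟩ := exists_retraction k A B
  refine ⟨((β.baseChange B).coord () ∘ₗ l).compDer (D k B), ?_⟩
  change (β.baseChange B).coord () (l (D k B (algebraMap A B t))) = 1
  have h1 : D k B (algebraMap A B t) = mapBaseChange k A B (1 ⊗ₜ D k A t) := by
    rw [mapBaseChange_tmul, map_D, one_smul]
  have h2 : l (mapBaseChange k A B (1 ⊗ₜ D k A t)) = 1 ⊗ₜ D k A t := LinearMap.congr_fun hl _
  rw [h1, h2, ← hβ, ← Module.Basis.baseChange_apply]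
  simp

end Groth.Agent.Vancyc.H364.SmoothDer
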