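import Groth.Agent.Vancyc.H364.CoordIdeal
import Groth.Agent.Fdesc.LocGenTensor
import Groth.Agent.Sga67.LocBasisOps
import Groth.Agent.Krr.H487.LocBasisPull

/-!
# Ideal of coordinates of germs of sections

* `coordIdeal_ger`: for a local basis, the ideal of coordinates of the germ of a section is generated by the germs of
  the coordinates of the section;
* `coordIdeal_tmul`: tensoring with a local generator does not change the ideal of coordinates.
-/

set_option autoImplicit false
universe u

open CategoryTheory CategoryTheory.Limits AlgebraicGeometry Opposite TopologicalSpace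
open scoped TensorProduct

namespace Groth.Agent.Vancyc.H364.TensCoord

open Groth.Agent.Fdesc
open Groth.Agent.Sga67.Sec Groth.Agent.Sga67.LocBasis Groth.Agent.Sga67.LocBasisStalk

open Groth.Agent.Krr.H487.LocBasisPull (exists_stalkBasis)
open CoordIdeal

variable {X : Scheme.{u}} {M N : X.Modules}

theorem tau_tmul {U : X.Opens} (m : Sec M U) (n : Sec N U) :
    tau M N U (m ⊗ₜ[Γ(X, U)] n) = LocGen.tmul (M := M) (N := N) m n := rfl

theorem isLocBasis_iff_isGen {U : X.Opens} (e : Sec M U) :
    IsLocBasis (fun _ : Unit => e) ↔ LocGen.IsGen (M := M) e := by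
  refine forall_congr' fun V => forall_congr' fun h => ?_
  have h1 : (fun a : Γ(X, V) => a • LocGen.res M h e) = (comb (fun _ : Unit => e) h) ∘ (Equiv.funUnique Unit Γ(X, V)).symm := by
    funext a
    rw [Function.comp_apply, comb_apply]
    simp
    rfl
  have h2 := ((Equiv.funUnique Unit Γ(X, V)).symm.bijective)
  rw [h1]
  exact (h2.of_comp_iff (comb (fun _ : Unit => e) h)).symm

/-- the ideal of coordinates of a germ, in a local basis -/
theorem coordIdeal_ger {U : X.Opens} {κ : Type*} [Fintype κ] {b : κ → Sec M U} (hb : IsLocBasis b)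
    {V : X.Opens} (h : V ≤ U) (a : κ → Γ(X, V)) (x : X) (hx : x ∈ V) :
    coordIdeal (X.presheaf.stalk x) (ger M x hx (comb b h a)) =
      Ideal.span (Set.range fun i => gerO x hx (a i)) := by
  obtain ⟨β, hβ⟩ := exists_stalkBasis hb x (h hx)
  rw [ger_comb, ← coordIdeal_eq_span β]
  congr 1
  exact Finset.sum_congr rfl fun k _ => by rw [hβ]

/-- tensoring with a generator -/
theorem coordIdeal_tmul {U : X.Opens} {κ : Type*} [Fintype κ] {b : κ → Sec M U} (hb : IsLocBasis b)
    {V : X.Opens} (h : V ≤ U) (m : Sec M V) {e : Sec N V} (he : LocGen.IsGen (M := N) e) (x : X) (hx : x ∈ V) :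
    coordIdeal (X.presheaf.stalk x) (ger (CohB1.tensorMod M N) x hx (LocGen.tmul (M := M) (N := N) m e)) =
      coordIdeal (X.presheaf.stalk x) (ger M x hx m) := by
  obtain ⟨a, rfl⟩ := (hb V h).2 m
  have hb' := hb.restrict h
  have ht := isLocBasis_tensor hb' ((isLocBasis_iff_isGen e).mpr he)
  rw [coordIdeal_ger hb h a x hx]
  have h1 : (LocGen.tmul (M := M) (N := N) (comb b h a) e : Sec (CohB1.tensorMod M N) V) =
      comb (M := CohB1.tensorMod M N)
        (fun p : κ × Unit => tau M N V (res M h (b p.1) ⊗ₜ[Γ(X, V)] e)) (le_refl V) (fun p => a p.1) := by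
    rw [← tau_tmul, comb_apply, comb_apply, TensorProduct.sum_tmul, map_sum]
    rw [Fintype.sum_prod_type]
    refine Finset.sum_congr rfl fun i _ => ?_
    rw [Fintype.sum_unique, res_self, ← TensorProduct.smul_tmul', map_smul]
  rw [h1, coordIdeal_ger ht le_rfl]
  congr 1
  ext r
  constructor
  · rintro ⟨⟨i, -⟩, rfl⟩
    exact ⟨i, rfl⟩
  · rintro ⟨i, rfl⟩
    exact ⟨(i, ()), rfl⟩

end Groth.Agent.Vancyc.H364.TensCoord
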