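import Groth.Prelude.Def_Milnor
import Groth.Agent.Vancyc.H364.DfSec
import Groth.Agent.Vancyc.H364.TensCoord
import Groth.Agent.CurvesB.OmegaStalkDict
import Groth.Agent.Vancyc.H364.SmoothDer
import Mathlib.AlgebraicGeometry.Morphisms.Smooth

/-!
# The Jacobian ideal is the ideal of coordinates of the section `df` of `Ω_X ⊗ f^* T_S`

`f : X ⟶ S`, `p : S ⟶ Spec k`, `Ω_{S/k}` invertible, `Ω_{X/k}` finite locally free, `x` a point of `X` with
`O_{X,x} = k + m_x`: `coordIdeal (germ of ds) = VanCyc.jacIdeal (f ≫ p) f x`.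
-/

set_option autoImplicit false
universe u

open CategoryTheory CategoryTheory.Limits AlgebraicGeometry Opposite TopologicalSpace
open scoped TensorProduct

namespace Groth.Agent.Vancyc.H364.JacCoord

open Groth.Agent.Fdesc Groth.Agent.Fdesc.LocGen
open Groth.Agent.Sga67.LocBasis Groth.Agent.Sga67.LocBasisStalk
open Groth.Agent.Krr.H487.LocBasisPull (exists_stalkBasis)
open Groth.Agent.CurvesB.OmegaDer (d d_mul d_res)
open Groth.Agent.CurvesB.OmegaStalkDict
open Groth.Agent.Grpsch.PicGrp (dgen)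
open Groth.Agent.Dual.H366.Conormal (pMap)
open CoordIdeal TensCoord DfSec

section Omega

variable {k : Type u} [CommRing k] {S : Scheme.{u}} (p : S ⟶ Spec (CommRingCat.of k))
  [QuasiCompact (pullback.diagonal p)]

/-- The differentials span the stalk. -/
theorem span_dSt (y : S) : Submodule.span (S.presheaf.stalk y) (Set.range (dSt p y)) = ⊤ := by
  let := stAlg p y
  let := stMod p (Omega.sheaf p) y
  have := stTower p (Omega.sheaf p) y
  have h1 := bijective_stDer p y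
  have h2 := KaehlerDifferential.span_range_derivation k (S.presheaf.stalk y)
  have h3 : Submodule.map (stDer p y).liftKaehlerDifferential ⊤ = ⊤ := by
    rw [Submodule.map_top]
    exact LinearMap.range_eq_top.mpr h1.2
  rw [← h3, ← h2, Submodule.map_span, ← Set.range_comp]
  congr 2
  funext a
  rw [Function.comp_apply, Derivation.liftKaehlerDifferential_comp_D]
  rfl

/-- a germ whose differential is a unit multiple of a generator is the germ of a function whose differential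
generates -/
theorem exists_isGen_of_germ (y : S) {V : S.Opens} {e : Γ(Omega.sheaf p, V)} (hyV : y ∈ V) (he : IsGen e)
    (t u : S.presheaf.stalk y) (hu : IsUnit u) (h1 : dSt p y t = u • ger (Omega.sheaf p) y hyV e) :
    ∃ (W : S.Opens) (hy : y ∈ W) (t' : Γ(S, W)), S.presheaf.germ W y hy t' = t ∧
      IsGen (M := Omega.sheaf p) (d p W t') := by
  obtain ⟨W₁, hy₁, t₁, u₁, ht₁, hu₁⟩ := exists_common y t u
  -- common refinement with `V`
  have hy₂ : y ∈ W₁ ⊓ V := ⟨hy₁, hyV⟩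
  have h2 : ger (Omega.sheaf p) y hy₂ (d p _ (ores inf_le_left t₁)) =
      ger (Omega.sheaf p) y hy₂ (ores (inf_le_left : W₁ ⊓ V ≤ W₁) u₁ • res (Omega.sheaf p) inf_le_right e) := by
    have e1 : ger (Omega.sheaf p) y hy₂ (d p _ (ores inf_le_left t₁)) = dSt p y t := by
      rw [← ht₁]
      refine (dSt_germ p y _ hy₂ (ores inf_le_left t₁)).symm.trans ?_
      congr 1
      exact gerO_res inf_le_left y hy₂ t₁
    rw [e1, h1]
    refine Eq.trans ?_ (ger_smul (Omega.sheaf p) y hy₂ _ _).symm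
    have e2 : gerO y hy₂ (ores (inf_le_left : W₁ ⊓ V ≤ W₁) u₁) = u := (gerO_res inf_le_left y hy₂ u₁).trans hu₁
    have e3 : ger (Omega.sheaf p) y hy₂ (res (Omega.sheaf p) inf_le_right e) = ger (Omega.sheaf p) y hyV e :=
      ger_res (Omega.sheaf p) inf_le_right y hy₂ e
    rw [e2, e3]
  obtain ⟨W₃, hW₃, hy₃, h3⟩ := exists_res_eq (Omega.sheaf p) y hy₂ _ _ h2
  -- `u` is a unit near `y`
  let u₃ : Γ(S, W₃) := ores (hW₃.trans inf_le_left) u₁
  have hu₃ : S.presheaf.germ W₃ y hy₃ u₃ = u := (gerO_res (hW₃.trans inf_le_left) y hy₃ u₁).trans hu₁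
  let W := S.basicOpen u₃
  have hWW : W ≤ W₃ := S.basicOpen_le u₃
  have hyW : y ∈ W := by
    rw [Scheme.mem_basicOpen S u₃ y hy₃, hu₃]
    exact hu
  have hun : IsUnit (ores hWW u₃) := RingedSpace.isUnit_res_basicOpen _ u₃
  refine ⟨W, hyW, ores (hWW.trans (hW₃.trans inf_le_left)) t₁, ?_, ?_⟩
  · exact (gerO_res (hWW.trans (hW₃.trans inf_le_left)) y hyW t₁).trans ht₁
  · have e1 : d p W (ores (hWW.trans (hW₃.trans inf_le_left)) t₁) =
        ores hWW u₃ • res (Omega.sheaf p) (hWW.trans (hW₃.trans inf_le_right)) e := by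
      have e2 := congrArg (res (Omega.sheaf p) hWW) h3
      have e4 : res (Omega.sheaf p) hWW (Groth.Agent.Sga67.Sec.res (Omega.sheaf p) hW₃ (d p _ (ores inf_le_left t₁))) =
          d p W (ores (hWW.trans (hW₃.trans inf_le_left)) t₁) := by
        have e5 : Groth.Agent.Sga67.Sec.res (Omega.sheaf p) hW₃ (d p _ (ores inf_le_left t₁)) =
            d p W₃ (ores hW₃ (ores inf_le_left t₁)) := d_res p hW₃ _
        rw [e5]
        refine (d_res p hWW _).trans ?_
        congr 1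
        exact (ores_ores hW₃ hWW _).trans (ores_ores inf_le_left (hWW.trans hW₃) _)
      rw [← e4, e2]
      have e6 : Groth.Agent.Sga67.Sec.res (Omega.sheaf p) hW₃
          (ores (inf_le_left : W₁ ⊓ V ≤ W₁) u₁ • res (Omega.sheaf p) inf_le_right e) =
          res (Omega.sheaf p) hW₃ (ores (inf_le_left : W₁ ⊓ V ≤ W₁) u₁ • res (Omega.sheaf p) inf_le_right e) := rfl
      have e7 : ores hWW u₃ = ores (hWW.trans (hW₃.trans inf_le_left)) u₁ := ores_ores _ _ _
      rw [e6, res_smul, res_smul, res_res, res_res, ores_ores, ores_ores, e7]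
    rw [e1]
    exact (he.res _).unit_smul hun

variable (hL : PicF.IsInvertible (Omega.sheaf p))
include hL

/-- some differential generates the stalk of `Ω_S` -/
theorem exists_germ (y : S) :
    ∃ (V : S.Opens) (e : Γ(Omega.sheaf p, V)) (hyV : y ∈ V) (a u : S.presheaf.stalk y), IsGen e ∧ IsUnit u ∧
      dSt p y a = u • ger (Omega.sheaf p) y hyV e := by
  obtain ⟨V, e, hyV, he⟩ := (isInvertible_iff _).mp hL y
  obtain ⟨β, hβ⟩ := exists_stalkBasis ((isLocBasis_iff_isGen e).mpr he) y hyV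
  obtain ⟨a, u, hu, hau⟩ := exists_gen (R := S.presheaf.stalk y) (ger (Omega.sheaf p) y hyV e)
    (by
      intro m
      refine ⟨β.repr m (), ?_⟩
      rw [← hβ ()]
      conv_lhs => rw [← β.sum_repr m]
      simp)
    (by
      intro r hr
      have h1 := (Fintype.linearIndependent_iff.mp β.linearIndependent) (fun _ => r) (by
        simp only [hβ]
        simpa using hr) ()
      exact h1)
    (dSt p y) (span_dSt p y)
  exact ⟨V, e, hyV, a, u, he, hu, hau⟩

/-- near `y` there is a function `t` whose differential generates `Ω_S` -/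
theorem exists_isGen_d (y : S) : ∃ (W : S.Opens) (_ : y ∈ W) (t : Γ(S, W)), IsGen (M := Omega.sheaf p) (d p W t) := by
  obtain ⟨V, e, hyV, a, u, he, hu, hau⟩ := exists_germ p hL y
  obtain ⟨W, hy, t, -, ht⟩ := exists_isGen_of_germ p y hyV he a u hu hau
  exact ⟨W, hy, t, ht⟩

/-- near `y` there is a function `t` vanishing at `y` whose differential generates `Ω_S` -/
theorem exists_uniformizer (y : S)
    (hk : ∀ a : S.presheaf.stalk y, ∃ c : k, a - stHom p y c ∈ IsLocalRing.maximalIdeal (S.presheaf.stalk y)) :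
    ∃ (W : S.Opens) (hy : y ∈ W) (t : Γ(S, W)),
      S.presheaf.germ W y hy t ∈ IsLocalRing.maximalIdeal (S.presheaf.stalk y) ∧
      IsGen (M := Omega.sheaf p) (d p W t) := by
  obtain ⟨V, e, hyV, a, u, he, hu, hau⟩ := exists_germ p hL y
  obtain ⟨c, hc⟩ := hk a
  have h1 : dSt p y (a - stHom p y c) = u • ger (Omega.sheaf p) y hyV e := by
    rw [map_sub, dSt_stHom, sub_zero, hau]
  obtain ⟨W, hy, t, hta, ht⟩ := exists_isGen_of_germ p y hyV he _ u hu h1
  exact ⟨W, hy, t, by rw [hta]; exact hc, ht⟩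

end Omega

section Main

variable {k : Type u} [Field k] {X S : Scheme.{u}} (f : X ⟶ S) (p : S ⟶ Spec (CommRingCat.of k))
  [QuasiCompact (pullback.diagonal p)] [QuasiCompact (pullback.diagonal (f ≫ p))]

theorem germ_app {W : S.Opens} (x : X) (hy : f x ∈ W) (a : Γ(S, W)) :
    X.presheaf.germ (f ⁻¹ᵁ W) x hy (f.app W a) = (f.stalkMap x).hom (S.presheaf.germ W (f x) hy a) := by
  exact congr($(Scheme.Hom.germ_stalkMap f W x hy) a).symm

omit [QuasiCompact (pullback.diagonal p)] [QuasiCompact (pullback.diagonal (f ≫ p))] in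
theorem stalkMap_stHom (x : X) (c : k) : (f.stalkMap x).hom (stHom p (f x) c) = stHom (f ≫ p) x c := by
  rw [← germ_secHom p ⊤ (f x) trivial, ← germ_app f x (W := ⊤) trivial, ← germ_secHom (f ≫ p) ⊤ x trivial]
  congr 1
  rw [secHom_eq, secHom_eq]
  have h2 := Scheme.Hom.appLE_comp_appLE f p ⊤ ⊤ ⊤ le_top le_top
  rw [← h2, CategoryTheory.comp_apply]
  have h3 : f.appLE ⊤ ⊤ le_top = f.app ⊤ := Scheme.Hom.appLE_eq_app f (U := ⊤)
  exact congr($h3 _).symm

/-- `d (f^# a)` is a multiple of `d (f^# t)` if `dt` generates. -/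
theorem exists_dSt_stalkMap (x : X) {W : S.Opens} (hy : f x ∈ W) {t : Γ(S, W)}
    (ht : IsGen (M := Omega.sheaf p) (d p W t)) (a : S.presheaf.stalk (f x)) :
    ∃ r : X.presheaf.stalk x, dSt (f ≫ p) x ((f.stalkMap x).hom a) =
      r • dSt (f ≫ p) x ((f.stalkMap x).hom (S.presheaf.germ W (f x) hy t)) := by
  obtain ⟨V, hyV, a₁, rfl⟩ := TopCat.Presheaf.exists_germ_eq S.presheaf a
  have hyW : f x ∈ V ⊓ W := ⟨hyV, hy⟩
  obtain ⟨b, hb⟩ := (ht.res (inf_le_right : V ⊓ W ≤ W)).exists_eq (d p _ (ores inf_le_left a₁))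
  have hb' : d p _ (ores inf_le_left a₁) = b • d p (V ⊓ W) (ores inf_le_right t) :=
    hb.trans (congrArg (fun z => b • z) (d_res p (inf_le_right : V ⊓ W ≤ W) t))
  have h1 := pMap_d f p (V ⊓ W) (ores inf_le_left a₁)
  rw [hb', pullSec_smul, Scheme.Modules.Hom.app_smul, pMap_d] at h1
  have h2 := congrArg (ger (Omega.sheaf (f ≫ p)) x (show x ∈ f ⁻¹ᵁ (V ⊓ W) from hyW)) h1
  refine ⟨gerO x (show x ∈ f ⁻¹ᵁ (V ⊓ W) from hyW) (f.app _ b), ?_⟩
  have key : ∀ (c : Γ(S, V ⊓ W)), ger (Omega.sheaf (f ≫ p)) x (show x ∈ f ⁻¹ᵁ (V ⊓ W) from hyW)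
      (d (f ≫ p) (f ⁻¹ᵁ (V ⊓ W)) (f.app (V ⊓ W) c)) =
      dSt (f ≫ p) x ((f.stalkMap x).hom (S.presheaf.germ (V ⊓ W) (f x) hyW c)) := by
    intro c
    rw [← germ_app, dSt_germ]
    rfl
  have g1 : S.presheaf.germ (V ⊓ W) (f x) hyW (ores inf_le_left a₁) = S.presheaf.germ V (f x) hyV a₁ :=
    gerO_res inf_le_left (f x) hyW a₁
  have g2 : S.presheaf.germ (V ⊓ W) (f x) hyW (ores inf_le_right t) = S.presheaf.germ W (f x) hy t :=
    gerO_res inf_le_right (f x) hyW t
  rw [← g1, ← g2, ← key, ← key, ← ger_smul]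
  exact h2.symm

variable (hL : PicF.IsInvertible (Omega.sheaf p)) (hΩ : FlatMod.IsFinLocFree (Omega.sheaf (f ≫ p)))

/-- the germ of `ds` and the germ of `d (f^# t)` have the same ideal of coordinates -/
theorem coordIdeal_ds_eq (hΩ : FlatMod.IsFinLocFree (Omega.sheaf (f ≫ p))) (x : X) {W : S.Opens} (hy : f x ∈ W)
    {t : Γ(S, W)} (ht : IsGen (M := Omega.sheaf p) (d p W t)) :
    coordIdeal (X.presheaf.stalk x) (ger (E f p) (U := ⊤) x trivial (sec (ds f p hL) ⊤)) =
      coordIdeal (X.presheaf.stalk x)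
        (dSt (f ≫ p) x ((f.stalkMap x).hom (S.presheaf.germ W (f x) hy t))) := by
  obtain ⟨U, n, hxU, b, hb⟩ := (isFinLocFree_iff _).mp hΩ x
  have hx : x ∈ U ⊓ f ⁻¹ᵁ W := ⟨hxU, hy⟩
  have h1 : ger (E f p) (U := ⊤) x trivial (sec (ds f p hL) ⊤) =
      ger (E f p) x hx (tmul (res (Omega.sheaf (f ≫ p)) inf_le_right
          (d (f ≫ p) (f ⁻¹ᵁ W) (f.app W t)))
        (res _ inf_le_right (pullSec f (dgen ht)))) := by
    rw [← res_tmul]
    have h2 := app_ds f p hL ht
    rw [pMap_d] at h2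
    rw [← h2]
    rw [← res_sec (ds f p hL) (le_top : f ⁻¹ᵁ W ≤ ⊤)]
    refine Eq.trans ?_ (ger_res (E f p) inf_le_right x hx _).symm
    exact (ger_res (E f p) (le_top : f ⁻¹ᵁ W ≤ ⊤) x hy _).symm
  rw [h1]
  refine (coordIdeal_tmul hb (V := U ⊓ f ⁻¹ᵁ W) inf_le_left
    (res (Omega.sheaf (f ≫ p)) inf_le_right (d (f ≫ p) (f ⁻¹ᵁ W) (f.app W t)))
    (((Groth.Agent.Grpsch.PicGrp.isGen_dgen ht).pullSec f).res inf_le_right) x hx).trans ?_
  congr 1
  rw [← germ_app, dSt_germ]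
  exact ger_res (Omega.sheaf (f ≫ p)) inf_le_right x hx _

/-- values of derivations on `f^# t`, for `dt` a generator of `Ω_S` -/
theorem mem_coordIdeal_ds (hΩ : FlatMod.IsFinLocFree (Omega.sheaf (f ≫ p))) (x : X) {W : S.Opens} (hy : f x ∈ W)
    {t : Γ(S, W)} (ht : IsGen (M := Omega.sheaf p) (d p W t)) (r : X.presheaf.stalk x) :
    r ∈ coordIdeal (X.presheaf.stalk x) (ger (E f p) (U := ⊤) x trivial (sec (ds f p hL) ⊤)) ↔
      letI := VanCyc.stalkAlgebra (f ≫ p) x
      ∃ D : Derivation k (X.presheaf.stalk x) (X.presheaf.stalk x),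
        D ((f.stalkMap x).hom (S.presheaf.germ W (f x) hy t)) = r := by
  rw [coordIdeal_ds_eq f p hL hΩ x hy ht]
  let := stAlg (f ≫ p) x
  let := stMod (f ≫ p) (Omega.sheaf (f ≫ p)) x
  have := stTower (f ≫ p) (Omega.sheaf (f ≫ p)) x
  exact mem_coordIdeal_der (stDer (f ≫ p) x) (bijective_stDer (f ≫ p) x) _ r

theorem coordIdeal_ds_le_of_mem (hΩ : FlatMod.IsFinLocFree (Omega.sheaf (f ≫ p))) (x : X) {W : S.Opens}
    (hy : f x ∈ W) {t : Γ(S, W)} (ht : IsGen (M := Omega.sheaf p) (d p W t))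
    (htm : S.presheaf.germ W (f x) hy t ∈ IsLocalRing.maximalIdeal (S.presheaf.stalk (f x))) :
    coordIdeal (X.presheaf.stalk x) (ger (E f p) (U := ⊤) x trivial (sec (ds f p hL) ⊤)) ≤
      VanCyc.jacIdeal (f ≫ p) f x := by
  intro r hr
  obtain ⟨D, rfl⟩ := (mem_coordIdeal_ds f p hL hΩ x hy ht r).mp hr
  exact Ideal.subset_span ⟨D, _, htm, rfl⟩

theorem jacIdeal_le (hΩ : FlatMod.IsFinLocFree (Omega.sheaf (f ≫ p))) (x : X) {W : S.Opens}
    (hy : f x ∈ W) {t : Γ(S, W)} (ht : IsGen (M := Omega.sheaf p) (d p W t)) :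
    VanCyc.jacIdeal (f ≫ p) f x ≤
      coordIdeal (X.presheaf.stalk x) (ger (E f p) (U := ⊤) x trivial (sec (ds f p hL) ⊤)) := by
  rw [VanCyc.jacIdeal, Ideal.span_le]
  rintro _ ⟨D, a, ha, rfl⟩
  rw [coordIdeal_ds_eq f p hL hΩ x hy ht]
  obtain ⟨r, hr⟩ := exists_dSt_stalkMap f p x hy ht a
  have h1 : D ((f.stalkMap x).hom a) ∈ coordIdeal (X.presheaf.stalk x) (dSt (f ≫ p) x ((f.stalkMap x).hom a)) := by
    let := stAlg (f ≫ p) x
    let := stMod (f ≫ p) (Omega.sheaf (f ≫ p)) x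
    have := stTower (f ≫ p) (Omega.sheaf (f ≫ p)) x
    exact (mem_coordIdeal_der (stDer (f ≫ p) x) (bijective_stDer (f ≫ p) x) _ _).mpr ⟨D, rfl⟩
  rw [hr] at h1
  exact coordIdeal_smul_le _ _ h1

/-- (A4), local form: at a point whose residue field is `k`, the ideal of coordinates of the germ of `ds` is the
Jacobian ideal. -/
theorem coordIdeal_ds (hΩ : FlatMod.IsFinLocFree (Omega.sheaf (f ≫ p))) (x : X)
    (hk : ∀ a : X.presheaf.stalk x, ∃ c : k, a - stHom (f ≫ p) x c ∈ IsLocalRing.maximalIdeal (X.presheaf.stalk x)) :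
    coordIdeal (X.presheaf.stalk x) (ger (E f p) (U := ⊤) x trivial (sec (ds f p hL) ⊤)) =
      VanCyc.jacIdeal (f ≫ p) f x := by
  obtain ⟨W, hy, t, htm, ht⟩ := exists_uniformizer p hL (f x) (by
    intro a
    obtain ⟨c, hc⟩ := hk ((f.stalkMap x).hom a)
    refine ⟨c, ?_⟩
    rw [IsLocalRing.mem_maximalIdeal] at hc ⊢
    intro hu
    refine hc ?_
    have h1 : (f.stalkMap x).hom (a - stHom p (f x) c) = (f.stalkMap x).hom a - stHom (f ≫ p) x c := by
      rw [map_sub, stalkMap_stHom]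
    rw [← h1]
    exact hu.map _)
  exact le_antisymm (coordIdeal_ds_le_of_mem f p hL hΩ x hy ht htm) (jacIdeal_le f p hL hΩ x hy ht)

/-- At the points where `f` is smooth the coordinates of `ds` generate the unit ideal. -/
theorem coordIdeal_ds_eq_top (hΩ : FlatMod.IsFinLocFree (Omega.sheaf (f ≫ p))) (x : X)
    (hs : (f.stalkMap x).hom.FormallySmooth) :
    coordIdeal (X.presheaf.stalk x) (ger (E f p) (U := ⊤) x trivial (sec (ds f p hL) ⊤)) = ⊤ := by
  obtain ⟨W, hy, t, ht⟩ := exists_isGen_d p hL (f x)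
  rw [Ideal.eq_top_iff_one, mem_coordIdeal_ds f p hL hΩ x hy ht]
  let i1 : Algebra k (S.presheaf.stalk (f x)) := stAlg p (f x)
  let i2 := stMod p (Omega.sheaf p) (f x)
  have i3 := stTower p (Omega.sheaf p) (f x)
  let i4 : Algebra k (X.presheaf.stalk x) := stAlg (f ≫ p) x
  let i5 : Algebra (S.presheaf.stalk (f x)) (X.presheaf.stalk x) := (f.stalkMap x).hom.toAlgebra
  have i6 : IsScalarTower k (S.presheaf.stalk (f x)) (X.presheaf.stalk x) :=
    IsScalarTower.of_algebraMap_eq (fun c => (stalkMap_stHom f p x c).symm)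
  have i7 : Algebra.FormallySmooth (S.presheaf.stalk (f x)) (X.presheaf.stalk x) := hs
  obtain ⟨β, hβ⟩ := exists_stalkBasis ((isLocBasis_iff_isGen (M := Omega.sheaf p) (d p W t)).mpr ht) (f x) hy
  let φ := LinearEquiv.ofBijective _ (bijective_stDer p (f x))
  have h : ∃ δ : Derivation k (X.presheaf.stalk x) (X.presheaf.stalk x),
      δ (algebraMap (S.presheaf.stalk (f x)) (X.presheaf.stalk x) (S.presheaf.germ W (f x) hy t)) = 1 := ?_
  · exact h
  refine SmoothDer.exists_derivation (k := k) (S.presheaf.germ W (f x) hy t) (β.map φ.symm) ?_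
  rw [Module.Basis.map_apply, LinearEquiv.symm_apply_eq, hβ]
  change _ = (stDer p (f x)).liftKaehlerDifferential _
  rw [Derivation.liftKaehlerDifferential_comp_D]
  exact (dSt_germ p (f x) W hy t).symm

end Main

end Groth.Agent.Vancyc.H364.JacCoord
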